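import Groth.Agent.AbVar.K513.Theta1
import Groth.Agent.Divis.ColonIdeal
import Groth.Agent.Ega1.AmpFam
import Groth.Agent.Ega1.AmpFamBlow
import Groth.Agent.Ega1.AnnIdealNoeth
import Groth.Agent.Ega2.RelAmpComp
import Groth.Agent.Pi1C.ZeroScheme

/-!
# Ample effective divisors on blow-ups

`exists_ample_div`: `g : X' ⟶ P` a blow-up in an ideal with support in the zero locus of a section `s` of an ample module;
then the preimage of the zero locus of `s` is the support of an effective Cartier divisor `D` with `O(D)` ample.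
-/

set_option autoImplicit false
universe u

open CategoryTheory CategoryTheory.Limits AlgebraicGeometry TopologicalSpace

namespace K593.AmpDiv

open Groth.Agent.Grpsch.PicGrp Groth.Agent.Fga.JacFactor Groth.Agent.Fga.ZeroClass
open Groth.Agent.Fdesc.LocGen Groth.Agent.Divis.EffCartier Groth.Agent.Ega2.RelAmp Groth.Agent.Ega2.Ample

variable {X P : Scheme.{u}}

/-- A section of an invertible module with a nonempty generating locus is nonzero. -/
theorem ne_zero_of_genLocus {M : X.Modules} (hM : PicF.IsInvertible M) (s : Coh.structureModule X ⟶ M) {x : X}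
    (hx : x ∈ CohB1.genLocus M s) : s ≠ 0 := by
  rintro rfl
  obtain ⟨U, e, hU, he⟩ := (isInvertible_iff M).mp hM x
  have h0 : sec (0 : Coh.structureModule X ⟶ M) U = (0 : Γ(X, U)) • e := by
    rw [zero_smul]
    simp [sec]
  have h1 := genLocus_inf_eq (0 : Coh.structureModule X ⟶ M) he h0
  have h2 : x ∈ X.basicOpen (0 : Γ(X, U)) := by
    rw [← h1]
    exact ⟨hx, hU⟩
  simp at h2

theorem mul_le_left (I J : X.IdealSheafData) : I * J ≤ J := fun U => by
  rw [Scheme.IdealSheafData.ideal_mul]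
  exact Ideal.mul_le_right (I := I.ideal U) (J := J.ideal U)

theorem exists_ample_div [IsIntegral X] [IsNoetherian X] {g : X ⟶ P} [QuasiCompact g] {𝓙 : P.IdealSheafData}
    (hg : BlowUp.IsBlowUp g 𝓙) {L : P.Modules} (hL : CohB1.IsAmple L) (s : Coh.structureModule P ⟶ L)
    (hne : ((g ⁻¹ᵁ CohB1.genLocus L s : X.Opens) : Set X).Nonempty)
    (h𝓙 : (𝓙.support : Set P) ⊆ (CohB1.genLocus L s : Set P)ᶜ) :
    ∃ (D : X.IdealSheafData) (A : X.Modules), BlowUp.IsEffCartierIdeal D ∧
      (D.support : Set X) = ((g ⁻¹ᵁ CohB1.genLocus L s : X.Opens) : Set X)ᶜ ∧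
      ClSub.IsInverseOf A (ClSub.idealMod D) ∧ CohB1.IsAmple A := by
  have hM : PicF.IsInvertible ((Scheme.Modules.pullback g).obj L) := isInvertible_pullback g hL.1
  have hgen : CohB1.genLocus _ (pullHom g s) = g ⁻¹ᵁ CohB1.genLocus L s :=
    Groth.Agent.Ega1.AmpFam.genLocus_pullHom g hL.1 s
  have hsp : pullHom g s ≠ 0 := ne_zero_of_genLocus hM _ (x := hne.some) (by rw [hgen]; exact hne.some_mem)
  set S := PicF2.zeroScheme _ (pullHom g s) with hSdef
  have hS : BlowUp.IsEffCartierIdeal S := K513.Theta1.isEffCartierIdeal_zeroScheme hM _ hsp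
  have hSs : (S.support : Set X) = ((g ⁻¹ᵁ CohB1.genLocus L s : X.Opens) : Set X)ᶜ := by
    ext x
    rw [← hgen]
    exact Groth.Agent.Pi1C.ZeroScheme.mem_support_iff _ hM x
  have hE := hg.1
  have hEs : (𝓙.comap g).support ≤ S.support := by
    intro x hx
    have h1 : x ∈ (S.support : Set X) := by
      rw [hSs]
      intro hx'
      rw [Scheme.IdealSheafData.support_comap] at hx
      exact h𝓙 hx hx'
    exact h1
  obtain ⟨N, hN⟩ := Groth.Agent.Ega1.AnnIdealNoeth.exists_pow_le hEs
  obtain ⟨n₀, hn₀⟩ := ampleOn_tw g (L := ClSub.idealMod (𝓙.comap g)) (isAmple_iff_ampleOn_top.1 hL)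
    (fun W _ hW => (isAmple_restrict_ι_iff _).1 (Groth.Agent.Ega1.AmpFamBlow.isAmple_restrict hg ⟨W, hW⟩ _ rfl))
  have hSn : S ^ (n₀ + N) ≤ 𝓙.comap g := by
    rw [pow_add]
    exact (mul_le_left _ _).trans hN
  obtain ⟨hSne, hSnd⟩ := K513.Theta1.exists_dcl_pow hS (n₀ + N)
  obtain ⟨D', hD', hED'⟩ := Groth.Agent.Divis.ColonIdeal.exists_mul_eq hE hSne hSn
  have hD := isEff_mul hS hD'
  have hA : CohB1.IsAmple (tw g (ClSub.idealMod (𝓙.comap g)) L (n₀ + N + 1)) :=
    isAmple_iff_ampleOn_top.2 (hn₀ _ (by omega))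
  refine ⟨S * D', _, hD, ?_, ?_, hA⟩
  · rw [← hSs]
    have h2 : (𝓙.comap g) * (S * D') = S ^ (n₀ + N + 1) := by
      rw [pow_succ, ← hED', mul_comm S D', mul_assoc]
    apply le_antisymm
    · have h3 : S ^ (n₀ + N + 1) ≤ S * D' := by
        rw [← h2]; exact mul_le_left _ _
      have h4 := Scheme.IdealSheafData.support_antitone h3
      rw [Scheme.IdealSheafData.support_pow_succ] at h4
      exact h4
    · rw [Scheme.IdealSheafData.support_mul]
      exact le_sup_left (a := S.support) (b := D'.support)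
  · have hI1 := Groth.Agent.Dix.IdealModCartier.isInvertible_idealMod hE
    have hI2 := Groth.Agent.Dix.IdealModCartier.isInvertible_idealMod hD
    have hT := isInvertible_pullback g (isInvertible_tensorPow hL.1 (n₀ + N + 1))
    have key : mk _ (isInvertible_tensorMod hI1 hT) * mk _ hI2 = 1 := by
      rw [← mk_mul_mk hI1 hT, ← pull_mk g (isInvertible_tensorPow hL.1 (n₀ + N + 1)), mk_tensorPow hL.1, map_pow,
        pull_mk g hL.1]
      have h5 : mk _ hM = (dcl S hS)⁻¹ :=
        mk_eq_inv_dcl hM (sec (pullHom g s) ⊤) (K513.Theta1.isZeroIdeal_zeroScheme hM _) hS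
      rw [h5]
      have h6 : mk _ hI2 = dcl S hS * dcl D' hD' := dcl_mul hS hD'
      have h7 : mk _ hI1 * dcl D' hD' = dcl S hS ^ (n₀ + N) := by
        rw [← hSnd]
        refine (dcl_mul hE hD').symm.trans ?_
        exact dcl_congr hED' _
      rw [h6]
      calc mk _ hI1 * (dcl S hS)⁻¹ ^ (n₀ + N + 1) * (dcl S hS * dcl D' hD')
          = (mk _ hI1 * dcl D' hD') * ((dcl S hS)⁻¹ ^ (n₀ + N + 1) * dcl S hS) := by
            ac_rfl
        _ = 1 := by
            rw [h7, pow_succ, mul_assoc, inv_mul_cancel, mul_one, inv_pow, mul_inv_cancel]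
    rw [mk_mul_mk, mk_eq_one_iff] at key
    exact key

end K593.AmpDiv
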