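import Groth.Agent.SmVar.K658.SecSmooth
import Groth.Agent.Sga5.ProjHyper
import Groth.Agent.Sga5.AmpleFib
import Groth.Agent.Ega1.AmpFam
import Groth.Agent.Dix.ProjProper
import Groth.Agent.S10962
import Groth.Agent.CycB.ImageInt
import Mathlib.AlgebraicGeometry.Morphisms.Immersion
import Mathlib.RingTheory.FiniteType

/-!
# The projective closure of an affine variety

`exists_projClosure`: an integral affine scheme `U` of finite type over a field `k` is open in an integral scheme `P`
proper over `k`, with an ample module `L` and a section of `L` whose non-vanishing locus is `U`.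
-/

set_option autoImplicit false
universe u

open CategoryTheory CategoryTheory.Limits AlgebraicGeometry TopologicalSpace MvPolynomial

namespace K593.ProjClosure

open Groth.Agent.Sga5.ProjSmooth Groth.Agent.Sga5.ProjChart

variable (n : ℕ) (k : Type u) [Field k]

theorem genLocus_X (i : Fin (n + 1)) :
    CohB1.genLocus _ (K658.SecSmooth.secOf (k := k) (n := n) ⟨X i, X_mem n k i⟩) = (chart n k i).opensRange := by
  rw [opensRange_chart]
  ext x
  have h1 := K658.SecSmooth.mem_support_iff (k := k) (n := n) ⟨X i, X_mem n k i⟩ x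
  rw [Groth.Agent.Pi1C.ZeroScheme.mem_support_iff _ (K658.SecSmooth.isInvertible k n)] at h1
  have h2 : x ∈ Proj.basicOpen (CohB1.polyGrading n k) (X i) ↔
      X i ∉ ProjectiveSpectrum.asHomogeneousIdeal (𝒜 := CohB1.polyGrading n k) x := Proj.mem_basicOpen _ _ _
  exact (not_iff_comm.mp h1).symm.trans h2.symm

variable {k}

theorem exists_closedImmersion {U : Scheme.{u}} [IsAffine U] (q : U ⟶ Spec (CommRingCat.of k))
    [LocallyOfFiniteType q] : ∃ (n : ℕ) (i : U ⟶ Spec (CommRingCat.of (MvPolynomial (Fin n) k))),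
      IsClosedImmersion i ∧ i ≫ Spec.map (CommRingCat.ofHom (C : k →+* MvPolynomial (Fin n) k)) = q := by
  let q' : Spec Γ(U, ⊤) ⟶ Spec (CommRingCat.of k) := U.isoSpec.inv ≫ q
  let ψ : CommRingCat.of k ⟶ Γ(U, ⊤) := Spec.preimage q'
  have hψ : Spec.map ψ = q' := Spec.map_preimage q'
  have hft : ψ.hom.FiniteType := by
    have h1 : LocallyOfFiniteType (Spec.map ψ) := by rw [hψ]; infer_instance
    exact (HasRingHomProperty.Spec_iff (P := @LocallyOfFiniteType)).1 h1
  letI : Algebra k Γ(U, ⊤) := ψ.hom.toAlgebra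
  have hft' : Algebra.FiniteType k Γ(U, ⊤) := hft
  obtain ⟨n, f, hf⟩ := Algebra.FiniteType.iff_quotient_mvPolynomial''.1 hft'
  have hcl : IsClosedImmersion (Spec.map (CommRingCat.ofHom f.toRingHom)) :=
    IsClosedImmersion.spec_of_surjective _ hf
  refine ⟨n, U.isoSpec.hom ≫ Spec.map (CommRingCat.ofHom f.toRingHom), inferInstance, ?_⟩
  have h2 : CommRingCat.ofHom (C : k →+* MvPolynomial (Fin n) k) ≫ CommRingCat.ofHom f.toRingHom = ψ := by
    ext a
    exact f.commutes a
  rw [Category.assoc, ← Spec.map_comp, h2, hψ, Iso.hom_inv_id_assoc]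

/-- The projective closure of an affine variety. -/
theorem exists_projClosure {U : Scheme.{u}} [IsIntegral U] [IsAffine U] (q : U ⟶ Spec (CommRingCat.of k))
    [LocallyOfFiniteType q] :
    ∃ (P : Scheme.{u}) (p : P ⟶ Spec (CommRingCat.of k)) (j : U ⟶ P) (L : P.Modules)
      (s : Coh.structureModule P ⟶ L) (_ : IsOpenImmersion j), IsIntegral P ∧ IsProper p ∧ j ≫ p = q ∧
      CohB1.IsAmple L ∧ CohB1.genLocus L s = j.opensRange := by
  obtain ⟨n, i, hi, hiq⟩ := exists_closedImmersion q
  let c := chart n k (Fin.last n)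
  let m : U ⟶ CohB1.ProjSpace n k := i ≫ c
  have hP : IsProper (CohB1.ProjSpace.toSpec n k) := inferInstance
  have hqc : QuasiCompact m := by
    have : QuasiSeparatedSpace (CohB1.ProjSpace n k) :=
      quasiSeparatedSpace_of_quasiSeparated (CohB1.ProjSpace.toSpec n k)
    infer_instance
  have hΓ : IsIntegral m.image := Groth.Agent.CycB.ImageInt.isIntegral_image m
  let L₁ : (CohB1.ProjSpace n k).Modules := Twist.twistProjSpace n k 1
  let s₁ : Coh.structureModule (CohB1.ProjSpace n k) ⟶ L₁ :=
    K658.SecSmooth.secOf (k := k) (n := n) ⟨X (Fin.last n), X_mem n k (Fin.last n)⟩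
  have hs₁ : CohB1.genLocus L₁ s₁ = c.opensRange := genLocus_X n k (Fin.last n)
  have hL₁ : PicF.IsInvertible L₁ := K658.SecSmooth.isInvertible k n
  refine ⟨m.image, m.imageι ≫ CohB1.ProjSpace.toSpec n k, m.toImage, _,
    Groth.Agent.Fdesc.LocGen.pullHom m.imageι s₁, inferInstance, hΓ, inferInstance, ?_, ?_, ?_⟩
  · rw [Scheme.Hom.toImage_imageι_assoc, Category.assoc, chart_toSpec, hiq]
  · exact Groth.Agent.Sga5.AmpleFib.isAmple_pullback m.imageι
      (Groth.Agent.S10962.isAmple_of_pos k n (d := 1) one_pos)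
  · rw [Groth.Agent.Ega1.AmpFam.genLocus_pullHom m.imageι hL₁, hs₁]
    ext y
    constructor
    · rintro ⟨z, hz⟩
      have h1 : m.imageι y ∈ closure (Set.range m) := by
        have h2 : y ∈ closure (Set.range m.toImage) := m.toImage.denseRange y
        have h3 := map_mem_closure m.imageι.continuous h2 (t := Set.range m) (by
          rintro _ ⟨u, rfl⟩
          refine ⟨u, ?_⟩
          rw [← Scheme.Hom.comp_apply, Scheme.Hom.toImage_imageι])
        exact h3
      rw [← hz] at h1
      have h4 : z ∈ closure (c ⁻¹' Set.range m) := by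
        rw [← c.isOpenEmbedding.isOpenMap.preimage_closure_eq_closure_preimage c.continuous]
        exact h1
      have h5 : c ⁻¹' Set.range m = Set.range i := by
        ext w
        constructor
        · rintro ⟨u, hu⟩
          refine ⟨u, c.isOpenEmbedding.injective ?_⟩
          rw [← hu, ← Scheme.Hom.comp_apply]
        · rintro ⟨u, rfl⟩
          exact ⟨u, by rw [← Scheme.Hom.comp_apply]⟩
      rw [h5, i.isClosedEmbedding.isClosed_range.closure_eq] at h4
      obtain ⟨u, rfl⟩ := h4
      refine ⟨u, m.imageι.isClosedEmbedding.injective ?_⟩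
      rw [← hz, ← Scheme.Hom.comp_apply, ← Scheme.Hom.comp_apply, Scheme.Hom.toImage_imageι]
    · rintro ⟨u, rfl⟩
      refine ⟨i u, ?_⟩
      rw [← Scheme.Hom.comp_apply, ← Scheme.Hom.comp_apply, Scheme.Hom.toImage_imageι]

end K593.ProjClosure
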