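import Groth.Agent.Variety.K593.CommonBlow
import Groth.Agent.Variety.K593.ProjClosure
import Groth.Agent.Variety.K593.AmpDiv
import Groth.Agent.CurvSt.K899.GenAff
import Groth.Agent.Dix.Cast5
import Groth.Agent.Divis.BlowUpFormal
import Groth.Agent.Ega2.BlowBasic
import Groth.Agent.Flat2C.BlowProper

/-!
# Goodman's theorem: affine opens of a proper scheme and ample divisors on blow-ups
-/

set_option autoImplicit false
universe u

open CategoryTheory CategoryTheory.Limits AlgebraicGeometry TopologicalSpace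

namespace K593.Goodman

open Groth.Agent.Grpsch.PicGrp

/-- The canonical section of the dual of the ideal module of an effective Cartier divisor. -/
theorem exists_section {X : Scheme.{u}} {D : X.IdealSheafData} (hD : BlowUp.IsEffCartierIdeal D) :
    ∃ s : Coh.structureModule X ⟶ Groth.Agent.Grpsch.PicGrp.dual (ClSub.idealMod D),
      (CohB1.genLocus _ s : Set X) = (D.support : Set X)ᶜ := by
  have hk : D.subschemeι.ker = D := Scheme.IdealSheafData.ker_subschemeι D
  have h := Groth.Agent.Dix.Cast5.exists_section D.subschemeι (by rw [hk]; exact hD)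
  rw [Scheme.IdealSheafData.range_subschemeι, hk] at h
  exact h

theorem iso_of_isInverseOf {X : Scheme.{u}} {L L' M : X.Modules} (hM : PicF.IsInvertible M)
    (hL : PicF.IsInvertible L) (hL' : PicF.IsInvertible L') (h : ClSub.IsInverseOf L M)
    (h' : ClSub.IsInverseOf L' M) : Nonempty (L ≅ L') := by
  obtain ⟨e⟩ := h
  obtain ⟨e'⟩ := h'
  have h1 : mk L hL * mk M hM = 1 := mk_congr e
  have h2 : mk L' hL' * mk M hM = 1 := mk_congr e'
  exact (mk_eq_iff hL hL').1 (mul_right_cancel (h1.trans h2.symm))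

/-- An invertible inverse of the ideal of an effective Cartier divisor. -/
theorem exists_inverse' {X : Scheme.{u}} {D : X.IdealSheafData} (hD : BlowUp.IsEffCartierIdeal D) :
    ∃ L : X.Modules, PicF.IsInvertible L ∧ ClSub.IsInverseOf L (ClSub.idealMod D) := by
  obtain ⟨N, hN1, ⟨e⟩⟩ := exists_inverse (Groth.Agent.Dix.IdealModCartier.isInvertible_idealMod hD)
  exact ⟨N, hN1, ⟨Groth.Agent.Ega2.Tens.swap _ _ ≪≫ e⟩⟩

/-- The complement of an ample effective divisor on a proper scheme is affine. -/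
theorem isAffineOpen_compl {R : Type u} [CommRing R] {X : Scheme.{u}} (p : X ⟶ Spec (CommRingCat.of R))
    [IsProper p] {D : X.IdealSheafData} (hD : BlowUp.IsEffCartierIdeal D) {L : X.Modules}
    (hL : CohB1.IsAmple L) (hLD : ClSub.IsInverseOf L (ClSub.idealMod D)) :
    IsAffineOpen D.support.compl := by
  obtain ⟨s, hs⟩ := exists_section hD
  have hI := Groth.Agent.Dix.IdealModCartier.isInvertible_idealMod hD
  have hd : ClSub.IsInverseOf (dual (ClSub.idealMod D)) (ClSub.idealMod D) :=
    ⟨Groth.Agent.Ega2.Tens.swap _ _ ≪≫ (@asIso _ _ _ _ (ev (ClSub.idealMod D)) (isIso_ev hI))⟩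
  obtain ⟨e⟩ := iso_of_isInverseOf hI hL.1 (isInvertible_dual hI) hLD hd
  have h1 := K899.GenAff.isAffineOpen_genLocus p (Groth.Agent.Flat2H.FamDict.isAmple_of_iso e hL) s
  have h2 : CohB1.genLocus (dual (ClSub.idealMod D)) s = D.support.compl :=
    TopologicalSpace.Opens.ext hs
  rwa [h2] at h1

/-- The blow-up in the zero ideal is empty. -/
theorem isBlowUp_bot (X : Scheme.{u}) : BlowUp.IsBlowUp (Scheme.emptyTo X) (⊥ : X.IdealSheafData) := by
  refine ⟨fun x => isEmptyElim x, fun Y g hg => ?_⟩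
  have hd := Groth.Agent.Ega2.BlowBasic.dense_offSupport hg
  have hY : IsEmpty Y := by
    by_contra hne
    rw [not_isEmpty_iff] at hne
    obtain ⟨y, hy⟩ := hd.nonempty
    apply hy
    rw [Scheme.IdealSheafData.support_comap]
    change g y ∈ (⊥ : X.IdealSheafData).support
    rw [Scheme.IdealSheafData.support_bot]
    trivial
  refine ⟨(isInitialOfIsEmpty (X := Y)).to _, ?_, fun h _ => (isInitialOfIsEmpty (X := Y)).hom_ext _ _⟩
  exact (isInitialOfIsEmpty (X := Y)).hom_ext _ _

/-- An invertible module on an empty scheme is ample. -/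
theorem isAmple_of_isEmpty {X : Scheme.{u}} [IsEmpty X] {L : X.Modules} (hL : PicF.IsInvertible L) :
    CohB1.IsAmple L :=
  ⟨hL, inferInstance, fun x => isEmptyElim x⟩

/-- An affine open whose preimage under a blow-up is the complement of an ample effective divisor. -/
theorem isAffineOpen_of_ample {k : Type u} [Field k] {X X' : Scheme.{u}} (x : X ⟶ Spec (CommRingCat.of k))
    {U : X.Opens} {𝓙 : X.IdealSheafData} (h𝓙 : (𝓙.support : Set X) ⊆ (U : Set X)ᶜ) {f : X' ⟶ X}
    (hf : BlowUp.IsBlowUp f 𝓙) (hp : IsProper (f ≫ x)) {D : X'.IdealSheafData} {L : X'.Modules}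
    (hD : BlowUp.IsEffCartierIdeal D) (hDs : (D.support : Set X') = (fun x => f x) ⁻¹' ((U : Set X)ᶜ))
    (hLD : ClSub.IsInverseOf L (ClSub.idealMod D)) (hL : CohB1.IsAmple L) : IsAffineOpen U := by
  have h1 := isAffineOpen_compl (f ≫ x) hD hL hLD
  have h2 : D.support.compl = f ⁻¹ᵁ U := by
    ext y
    change y ∉ (D.support : Set X') ↔ f y ∈ U
    rw [hDs]
    exact not_not
  rw [h2] at h1
  have h3 : IsIso (f ∣_ U) := Groth.Agent.Divis.BlowUpFormal.isIso_morphismRestrict_compl_support hf U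
    (Set.disjoint_left.2 fun y hy hy' => h𝓙 hy' hy)
  have h4 : IsAffine (f ⁻¹ᵁ U).toScheme := h1
  exact IsAffine.of_isIso (inv (f ∣_ U))

/-- Goodman's theorem: an affine open of a proper integral scheme is the complement of an ample effective divisor on a
blow-up with centre in the complement. -/
theorem exists_blowUp {k : Type u} [Field k] {X : Scheme.{u}} (x : X ⟶ Spec (CommRingCat.of k)) [IsProper x]
    [IsIntegral X] {U : X.Opens} (hU : IsAffineOpen U) :
    ∃ 𝓙 : X.IdealSheafData, (𝓙.support : Set X) ⊆ (U : Set X)ᶜ ∧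
      ∃ (X' : Scheme.{u}) (f : X' ⟶ X), BlowUp.IsBlowUp f 𝓙 ∧ IsProper (f ≫ x) ∧
        ∃ (D : X'.IdealSheafData) (L : X'.Modules), BlowUp.IsEffCartierIdeal D ∧
          (D.support : Set X') = (fun x => f x) ⁻¹' ((U : Set X)ᶜ) ∧
          ClSub.IsInverseOf L (ClSub.idealMod D) ∧ CohB1.IsAmple L := by
  have hXn : IsLocallyNoetherian X := LocallyOfFiniteType.isLocallyNoetherian x
  rcases (U : Set X).eq_empty_or_nonempty with he | hne
  · have hfin : BlowUp.IsFiniteTypeIdeal (⊥ : X.IdealSheafData) := fun V => by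
      have := IsLocallyNoetherian.component_noetherian V
      exact IsNoetherian.noetherian _
    have hb := isBlowUp_bot X
    have hp : IsProper (Scheme.emptyTo X) := Groth.Agent.Flat2C.BlowProper.isProper_of_isBlowUp hb hfin
    obtain ⟨L, hL, hLD⟩ := exists_inverse' (Groth.Agent.Ega2.BlowBasic.isEffCartierIdeal_top (X := (∅ : Scheme.{u})))
    refine ⟨⊥, ?_, ∅, Scheme.emptyTo X, hb, inferInstance, ⊤, L,
      Groth.Agent.Ega2.BlowBasic.isEffCartierIdeal_top, ?_, hLD, isAmple_of_isEmpty hL⟩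
    · rw [he]; simp
    · ext y; exact isEmptyElim y
  · have hUne : Nonempty U := hne.to_subtype
    have : IsAffine U.toScheme := hU
    have : IsIntegral U.toScheme := inferInstance
    obtain ⟨P, p, j, L, s, hj, hPi, hPp, hjp, hL, hs⟩ := K593.ProjClosure.exists_projClosure (U.ι ≫ x)
    obtain ⟨X', f, g, 𝓘, 𝓙, hX', hf, hg, h𝓘, h𝓙, hI, hJ, hfg, hpre⟩ :=
      K593.CommonBlow.exists_common x p U hne j hjp
    have hPn : IsLocallyNoetherian P := LocallyOfFiniteType.isLocallyNoetherian p
    have hfp : IsProper f := Groth.Agent.Flat2C.BlowProper.isProper_of_isBlowUp hf h𝓘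
    have hgp : IsProper g := Groth.Agent.Flat2C.BlowProper.isProper_of_isBlowUp hg h𝓙
    have hX'n : IsLocallyNoetherian X' := LocallyOfFiniteType.isLocallyNoetherian (f ≫ x)
    have hX'c : CompactSpace X' := QuasiCompact.compactSpace_of_compactSpace (f ≫ x)
    have : IsNoetherian X' := {}
    have hne' : ((g ⁻¹ᵁ CohB1.genLocus L s : X'.Opens) : Set X').Nonempty := by
      rw [hs, ← hpre]
      have h3 : IsIso (f ∣_ U) := Groth.Agent.Divis.BlowUpFormal.isIso_morphismRestrict_compl_support hf U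
        (Set.disjoint_left.2 fun y hy hy' => hI hy' hy)
      obtain ⟨u⟩ := hUne
      exact ⟨_, (inv (f ∣_ U) u).2⟩
    obtain ⟨D, A, hD, hDs, hA, hAmp⟩ := K593.AmpDiv.exists_ample_div hg hL s hne' (by rw [hs]; exact hJ)
    refine ⟨𝓘, hI, X', f, hf, inferInstance, D, A, hD, ?_, hA, hAmp⟩
    rw [hDs, hs, ← hpre]
    rfl

end K593.Goodman
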