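import Groth.Agent.S17388
import Groth.Agent.S2348
import Groth.Agent.Flat2C.BlowProper
import Groth.Agent.CycB.ImageInt
import Mathlib.AlgebraicGeometry.Morphisms.Immersion
import Mathlib.AlgebraicGeometry.Morphisms.Separated
import Mathlib.AlgebraicGeometry.Morphisms.SchemeTheoreticallyDominant

/-!
# Two compactifications of an integral scheme have a common blow-up

* `isIso_restrict_of_section`: a separated morphism with reduced source is an isomorphism over an open with a dominant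
  section.
* `exists_common`: `X`, `P` integral, proper over a field, `U` an open of `X` and `j : U ⟶ P` an open immersion: there is
  an integral scheme which is a blow-up of `X` and of `P`, in ideals with support outside `U`.
-/

set_option autoImplicit false
universe u

open CategoryTheory CategoryTheory.Limits AlgebraicGeometry TopologicalSpace

namespace K593.CommonBlow

/-- A separated morphism with reduced source is an isomorphism over an open over which it has a dominant section. -/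
theorem isIso_restrict_of_section {Y X : Scheme.{u}} (φ : Y ⟶ X) [IsSeparated φ] [IsReduced Y] (U : X.Opens)
    (s : (U : Scheme.{u}) ⟶ Y) (hs : s ≫ φ = U.ι) [IsDominant s] :
    IsIso (φ ∣_ U) ∧ ((φ ⁻¹ᵁ U : Y.Opens) : Set Y) = Set.range s := by
  have hr : Set.range s ⊆ ((φ ⁻¹ᵁ U : Y.Opens) : Set Y) := by
    rintro _ ⟨x, rfl⟩
    have h1 : φ (s x) = U.ι x := by rw [← hs]; rfl
    change φ (s x) ∈ U
    rw [h1]
    exact x.2
  let s' : (U : Scheme.{u}) ⟶ (φ ⁻¹ᵁ U : Y.Opens) :=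
    IsOpenImmersion.lift (φ ⁻¹ᵁ U).ι s (by rw [Scheme.Opens.range_ι]; exact hr)
  have hs' : s' ≫ (φ ⁻¹ᵁ U).ι = s := IsOpenImmersion.lift_fac _ _ _
  have hsec : s' ≫ (φ ∣_ U) = 𝟙 _ := by
    rw [← cancel_mono U.ι, Category.assoc, morphismRestrict_ι, reassoc_of% hs', hs, Category.id_comp]
  have hcl : IsClosedImmersion s' := by
    have h2 : IsClosedImmersion (s' ≫ (φ ∣_ U)) := by rw [hsec]; infer_instance
    exact @IsClosedImmersion.of_comp _ _ _ s' (φ ∣_ U) h2 inferInstance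
  have hdom : IsDominant s' := by
    have h3 : IsDominant (s' ≫ (φ ⁻¹ᵁ U).ι) := by rw [hs']; infer_instance
    exact @IsDominant.of_comp_of_isOpenImmersion _ _ _ s' (φ ⁻¹ᵁ U).ι h3 inferInstance
  have hsurj : Surjective s' :=
    surjective_of_isDominant_of_isClosed_range _ s'.isClosedEmbedding.isClosed_range
  have hiso : IsIso s' := isIso_of_isClosedImmersion_of_surjective s'
  refine ⟨?_, ?_⟩
  · have h4 : IsIso (s' ≫ (φ ∣_ U)) := by rw [hsec]; infer_instance
    exact IsIso.of_isIso_comp_left s' (φ ∣_ U)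
  · refine Set.Subset.antisymm (fun y hy => ?_) hr
    obtain ⟨x, hx⟩ := hsurj.surj ⟨y, hy⟩
    refine ⟨x, ?_⟩
    rw [← hs', Scheme.Hom.comp_apply, hx]
    rfl

/-- An open immersion from a nonempty scheme into an integral scheme is dominant. -/
theorem isDominant_of_isOpenImmersion {Y X : Scheme.{u}} (j : Y ⟶ X) [IsOpenImmersion j] [IsIntegral X] [Nonempty Y] :
    IsDominant j :=
  ⟨IsOpen.dense j.isOpenEmbedding.isOpen_range (Set.range_nonempty j)⟩

/-- A proper open immersion from a nonempty scheme into an integral scheme is an isomorphism. -/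
theorem isIso_of_isProper {Y X : Scheme.{u}} (j : Y ⟶ X) [IsOpenImmersion j] [IsProper j] [IsIntegral X] [Nonempty Y] :
    IsIso j := by
  have h1 := isDominant_of_isOpenImmersion j
  have h2 : Surjective j := surjective_of_isDominant_of_isClosed_range _ j.isClosedMap.isClosed_range
  exact (isIso_iff_isOpenImmersion_and_surjective j).2 ⟨inferInstance, h2⟩

theorem ne_bot_of_disjoint {X : Scheme.{u}} {I : X.IdealSheafData} {S : Set X} (hS : S.Nonempty)
    (h : Disjoint (I.support : Set X) S) : I ≠ ⊥ := by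
  rintro rfl
  rw [Scheme.IdealSheafData.support_bot] at h
  obtain ⟨x, hx⟩ := hS
  exact Set.disjoint_left.mp h trivial hx

/-- Two compactifications of an integral scheme have a common blow-up. -/
theorem exists_common {k : Type u} [Field k] {X P : Scheme.{u}} [IsIntegral X] [IsIntegral P]
    (x : X ⟶ Spec (CommRingCat.of k)) (p : P ⟶ Spec (CommRingCat.of k)) [IsProper x] [IsProper p]
    (U : X.Opens) (hne : (U : Set X).Nonempty) (j : (U : Scheme.{u}) ⟶ P) [IsOpenImmersion j]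
    (hj : j ≫ p = U.ι ≫ x) :
    ∃ (X' : Scheme.{u}) (f : X' ⟶ X) (g : X' ⟶ P) (𝓘 : X.IdealSheafData) (𝓙 : P.IdealSheafData),
      IsIntegral X' ∧ BlowUp.IsBlowUp f 𝓘 ∧ BlowUp.IsBlowUp g 𝓙 ∧ BlowUp.IsFiniteTypeIdeal 𝓘 ∧
      BlowUp.IsFiniteTypeIdeal 𝓙 ∧
      (𝓘.support : Set X) ⊆ (U : Set X)ᶜ ∧ (𝓙.support : Set P) ⊆ (j.opensRange : Set P)ᶜ ∧
      f ≫ x = g ≫ p ∧ f ⁻¹ᵁ U = g ⁻¹ᵁ j.opensRange := by
  have hXn : IsLocallyNoetherian X := LocallyOfFiniteType.isLocallyNoetherian x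
  have hPn : IsLocallyNoetherian P := LocallyOfFiniteType.isLocallyNoetherian p
  have hXc : CompactSpace X := QuasiCompact.compactSpace_of_compactSpace x
  have hPc : CompactSpace P := QuasiCompact.compactSpace_of_compactSpace p
  have hXN : IsNoetherian X := {}
  have hPN : IsNoetherian P := {}
  have hUne : Nonempty (U : Scheme.{u}) := ⟨⟨_, hne.some_mem⟩⟩
  have hUi : IsIntegral (U : Scheme.{u}) := isIntegral_of_isOpenImmersion U.ι
  let m : (U : Scheme.{u}) ⟶ pullback x p := pullback.lift U.ι j hj.symm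
  have hm1 : m ≫ pullback.fst x p = U.ι := pullback.lift_fst _ _ _
  have hm2 : m ≫ pullback.snd x p = j := pullback.lift_snd _ _ _
  have hmi : IsImmersion m := by
    have : IsImmersion (m ≫ pullback.fst x p) := by rw [hm1]; infer_instance
    exact IsImmersion.of_comp m (pullback.fst x p)
  have hUc : CompactSpace (U : Scheme.{u}) :=
    isCompact_iff_compactSpace.mp (TopologicalSpace.NoetherianSpace.isCompact (U : Set X))
  have hQs : QuasiSeparatedSpace (pullback x p : Scheme.{u}) :=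
    quasiSeparatedSpace_of_quasiSeparated (pullback.fst x p ≫ x)
  have hmq : QuasiCompact m := inferInstance
  have hΓ : IsIntegral m.image := Groth.Agent.CycB.ImageInt.isIntegral_image m
  set s := m.toImage with hs
  set p1 : m.image ⟶ X := m.imageι ≫ pullback.fst x p with hp1
  set p2 : m.image ⟶ P := m.imageι ≫ pullback.snd x p with hp2
  have hs1 : s ≫ p1 = U.ι := by
    rw [hs, hp1, Scheme.Hom.toImage_imageι_assoc, hm1]
  have hs2 : s ≫ p2 = j := by
    rw [hs, hp2, Scheme.Hom.toImage_imageι_assoc, hm2]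
  obtain ⟨hi1, hr1⟩ := isIso_restrict_of_section p1 U s hs1
  let s₂ : (j.opensRange : Scheme.{u}) ⟶ m.image := j.isoOpensRange.inv ≫ s
  have hs₂ : s₂ ≫ p2 = j.opensRange.ι := by
    rw [Category.assoc, hs2, Scheme.Hom.isoOpensRange_inv_comp]
  have hs₂d : IsDominant s₂ := inferInstance
  obtain ⟨hi2, hr2⟩ := isIso_restrict_of_section p2 j.opensRange s₂ hs₂
  have hrr : Set.range s₂ = Set.range s := by
    ext y
    constructor
    · rintro ⟨z, rfl⟩
      exact ⟨j.isoOpensRange.inv z, rfl⟩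
    · rintro ⟨z, rfl⟩
      refine ⟨j.isoOpensRange.hom z, ?_⟩
      rw [← Scheme.Hom.comp_apply, Iso.hom_inv_id_assoc]
  have hpre : p1 ⁻¹ᵁ U = p2 ⁻¹ᵁ j.opensRange := by
    apply TopologicalSpace.Opens.ext
    rw [hr1, hr2, hrr]
  have hne' : ((p1 ⁻¹ᵁ U ⊓ p2 ⁻¹ᵁ j.opensRange : m.image.Opens) : Set m.image).Nonempty := by
    rw [← hpre, inf_idem, hr1]
    exact Set.range_nonempty s
  have hd1 : Dense ((p1 ⁻¹ᵁ U : m.image.Opens) : Set m.image) := by
    rw [hr1]; exact s.denseRange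
  have hd2 : Dense ((p2 ⁻¹ᵁ j.opensRange : m.image.Opens) : Set m.image) := by
    rw [← hpre]; exact hd1
  have hcΓ : CompactSpace m.image := QuasiCompact.compactSpace_of_compactSpace (p1 ≫ x)
  have hqΓ : QuasiSeparatedSpace m.image := quasiSeparatedSpace_of_quasiSeparated (p1 ≫ x)
  obtain ⟨𝓘, 𝓙₁, 𝓙₂, Xt, Yt₁, Yt₂, b, c₁, c₂, j₁, j₂, hb, hadm, hc₁, hft₁, hdis₁, hc₂, hft₂, hdis₂, hj₁, hj₂, e₁, e₂⟩ :=
    Groth.Agent.S17388.result p1 p2 U j.opensRange
      (TopologicalSpace.NoetherianSpace.isCompact _) (TopologicalSpace.NoetherianSpace.isCompact _)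
      (U.2.dense hne) (j.opensRange.2.dense (Set.range_nonempty j)) hd1 hd2
  obtain ⟨hXt, -, -⟩ := Groth.Agent.S2348.result 𝓘 (ne_bot_of_disjoint hne' hadm.2) b hb
  obtain ⟨hY₁, -, -⟩ := Groth.Agent.S2348.result 𝓙₁ (ne_bot_of_disjoint (hne'.image _) hdis₁) c₁ hc₁
  obtain ⟨hY₂, -, -⟩ := Groth.Agent.S2348.result 𝓙₂ (ne_bot_of_disjoint (hne'.image _) hdis₂) c₂ hc₂
  have hbp : IsProper b := Groth.Agent.Flat2C.BlowProper.isProper_of_isBlowUp hb hadm.1
  have hc₁p : IsProper c₁ := Groth.Agent.Flat2C.BlowProper.isProper_of_isBlowUp hc₁ hft₁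
  have hc₂p : IsProper c₂ := Groth.Agent.Flat2C.BlowProper.isProper_of_isBlowUp hc₂ hft₂
  have hp1p : IsProper p1 := inferInstance
  have hp2p : IsProper p2 := inferInstance
  have hj₁p : IsProper j₁ := by
    have : IsProper (j₁ ≫ c₁) := by rw [e₁]; infer_instance
    exact IsProper.of_comp j₁ c₁
  have hj₂p : IsProper j₂ := by
    have : IsProper (j₂ ≫ c₂) := by rw [e₂]; infer_instance
    exact IsProper.of_comp j₂ c₂
  have hj₁i := isIso_of_isProper j₁
  have hj₂i := isIso_of_isProper j₂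
  have himg1 : ∀ y ∈ U, y ∈ ((fun z => p1 z) '' ((p1 ⁻¹ᵁ U ⊓ p2 ⁻¹ᵁ j.opensRange : m.image.Opens) : Set m.image)) := by
    intro y hy
    refine ⟨s ⟨y, hy⟩, ?_, ?_⟩
    · rw [← hpre, inf_idem, hr1]
      exact Set.mem_range_self _
    · change p1 (s ⟨y, hy⟩) = y
      rw [← Scheme.Hom.comp_apply, hs1]
      rfl
  have himg2 : ∀ y ∈ j.opensRange,
      y ∈ ((fun z => p2 z) '' ((p1 ⁻¹ᵁ U ⊓ p2 ⁻¹ᵁ j.opensRange : m.image.Opens) : Set m.image)) := by
    rintro _ ⟨z, rfl⟩
    refine ⟨s z, ?_, ?_⟩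
    · rw [← hpre, inf_idem, hr1]
      exact Set.mem_range_self _
    · change p2 (s z) = j z
      rw [← Scheme.Hom.comp_apply, hs2]
  refine ⟨Xt, b ≫ p1, b ≫ p2, 𝓙₁, 𝓙₂, hXt,
    Groth.Agent.Flat2C.BlowProper.isBlowUp_of_iso hc₁ (asIso j₁) e₁,
    Groth.Agent.Flat2C.BlowProper.isBlowUp_of_iso hc₂ (asIso j₂) e₂, hft₁, hft₂, ?_, ?_, ?_, ?_⟩
  · intro y hy hyU
    exact Set.disjoint_left.mp hdis₁ hy (himg1 y hyU)
  · intro y hy hyU
    exact Set.disjoint_left.mp hdis₂ hy (himg2 y hyU)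
  · simp only [hp1, hp2, Category.assoc, pullback.condition]
  · change b ⁻¹ᵁ (p1 ⁻¹ᵁ U) = b ⁻¹ᵁ (p2 ⁻¹ᵁ j.opensRange)
    rw [hpre]

end K593.CommonBlow
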